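import Cfsg.Agent.H34.SporHS
import Cfsg.Agent.H34.SporTool2_m3
import Cfsg.Agent.H713.Spor.McL
import Cfsg.Agent.H997.OutMcL
import Cfsg.Agent.S0886
import Cfsg.Agent.FastGrp
import Cfsg.Agent.Prune
set_option linter.all false

-- part: H34/SporMcL
section
set_option linter.all false
open scoped Cfsg.Agent.FastGrp

/-!
# S4834: the McLaughlin group, `p = 5` (helper34)
-/

set_option autoImplicit false

namespace Cfsg.Agent.H34.SporMcL

open Cfsg Cfsg.Spor Subgroup Cfsg.Agent.H635.Spor Cfsg.Agent.H34.SporTool Cfsg.Agent.H34.SporHyp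
open Cfsg.Agent.H997.OutMcL Cfsg.Agent Cfsg.Agent.H997 Cfsg.Agent.H713.Spor.McL Cfsg.Agent.H419.LeechIrr
open Cfsg.Agent.SporadicRecognition.HSRank

universe u

/-- The swap induces an outer automorphism. -/
theorem outer_ne {f : Equiv.Perm leechLattice} (hf : f ∈ Co0) (hV : f leechV = leechV) (hU : f leechU = W)
    (hW : f W = leechU) (hn : f ∈ Subgroup.normalizer (McL : Set (Equiv.Perm leechLattice))) (k : McL) :
    Subgroup.normalizerMonoidHom McL ⟨f, hn⟩ ≠ MulAut.conj k := by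
  obtain ⟨hfin, hsimple, hcard, ⟨L⟩⟩ := TypeM.FactsMcL.exists_mt_mcl
  intro hk
  have hkm := mem_McL.1 k.2
  -- `c = k⁻¹ f`
  have hcV : ((k : Equiv.Perm leechLattice)⁻¹ * f) leechV = leechV := by
    rw [Equiv.Perm.mul_apply, hV, Equiv.Perm.inv_eq_iff_eq, hkm.2.1]
  have hkW : (k : Equiv.Perm leechLattice) W = W := by rw [map_W hkm.1 hkm.2.1, hkm.2.2]; rfl
  have hcU : ((k : Equiv.Perm leechLattice)⁻¹ * f) leechU = W := by
    rw [Equiv.Perm.mul_apply, hU, Equiv.Perm.inv_eq_iff_eq, hkW]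
  have hcW : ((k : Equiv.Perm leechLattice)⁻¹ * f) W = leechU := by
    rw [Equiv.Perm.mul_apply, hW, Equiv.Perm.inv_eq_iff_eq, hkm.2.2]
  have hc0 : (k : Equiv.Perm leechLattice)⁻¹ * f ∈ Co0 := mul_mem (inv_mem hkm.1) hf
  have hcen : ∀ x : Equiv.Perm leechLattice, x ∈ McL →
      ((k : Equiv.Perm leechLattice)⁻¹ * f) * x = x * ((k : Equiv.Perm leechLattice)⁻¹ * f) := by
    intro x hx
    have h2 : f * x * f⁻¹ = k * x * (k : Equiv.Perm leechLattice)⁻¹ :=
      congrArg (fun β : MulAut McL => ((β ⟨x, hx⟩ : McL) : Equiv.Perm leechLattice)) hk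
    calc (k : Equiv.Perm leechLattice)⁻¹ * f * x = (k : Equiv.Perm leechLattice)⁻¹ * (f * x * f⁻¹) * f := by group
      _ = (k : Equiv.Perm leechLattice)⁻¹ * (k * x * (k : Equiv.Perm leechLattice)⁻¹) * f := by rw [h2]
      _ = x * ((k : Equiv.Perm leechLattice)⁻¹ * f) := by group
  obtain ⟨c, hc⟩ : ∃ c : Equiv.Perm leechLattice, c = (k : Equiv.Perm leechLattice)⁻¹ * f := ⟨_, rfl⟩
  rw [← hc] at hcV hcU hcW hc0 hcen
  have hcc : c * c ∈ McL := mem_McL.2 ⟨mul_mem hc0 hc0, by rw [Equiv.Perm.mul_apply, hcV, hcV],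
    by rw [Equiv.Perm.mul_apply, hcU, hcW]⟩
  have hcc1 : c * c = 1 := by
    have hz : (⟨c * c, hcc⟩ : McL) ∈ Subgroup.center McL := by
      rw [Subgroup.mem_center_iff]
      intro x
      apply Subtype.ext
      show (x : Equiv.Perm leechLattice) * (c * c) = c * c * x
      rw [← mul_assoc, ← hcen x x.2, mul_assoc, ← hcen x x.2, mul_assoc]
    have hzb : Subgroup.center McL = ⊥ := by
      rcases IsSimpleGroup.eq_bot_or_eq_top_of_normal (Subgroup.center McL) inferInstance with h | h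
      · exact h
      · exfalso
        have hcomm : ∀ a b : McL, a * b = b * a := fun a b =>
          (Subgroup.mem_center_iff.1 (by rw [h]; trivial : b ∈ Subgroup.center McL) a)
        let _ : CommGroup McL := { (inferInstance : Group McL) with mul_comm := hcomm }
        have hp := IsSimpleGroup.prime_card (α := McL)
        rw [hcard] at hp
        revert hp
        norm_num
    rw [hzb, Subgroup.mem_bot] at hz
    exact congrArg Subtype.val hz
  refine no_central (c := ⟨⟨c, hc0⟩, hcV⟩) ?_ ?_ hcen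
  · intro h
    have h1 : c = 1 := congrArg (fun z : Cfsg.Agent.SporRec.Co3.Chain.G3 => ((z : Co0) : Equiv.Perm leechLattice)) h
    rw [h1] at hcU
    exact W_ne hcU.symm
  · apply Subtype.ext
    apply Subtype.ext
    exact hcc1

/-- **Every automorphism of `McL` is conjugation by an element of `Co₀`.** -/
theorem exists_conj (σ : MulAut McL) : ∃ c : Co0, ∀ x : McL,
    ((σ x : McL) : Equiv.Perm leechLattice) = (c : Equiv.Perm leechLattice) * x * (c : Equiv.Perm leechLattice)⁻¹ := by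
  obtain ⟨f, hf, hV, hU, hW⟩ := OutMcL.exists_swap
  have hn := mem_normalizer hf hV hU hW
  by_cases h : σ ∈ (MulAut.conj : McL →* MulAut McL).range
  · obtain ⟨k, rfl⟩ := h
    exact ⟨⟨k, (mem_McL.1 k.2).1⟩, fun x => rfl⟩
  · have hi : (MulAut.conj : McL →* MulAut McL).range.index = 2 := card_out
    have h1 : Subgroup.normalizerMonoidHom McL ⟨f, hn⟩ ∉ (MulAut.conj : McL →* MulAut McL).range := by
      rintro ⟨k, hk⟩
      exact outer_ne hf hV hU hW hn k hk.symm
    have h2 : (Subgroup.normalizerMonoidHom McL ⟨f, hn⟩)⁻¹ ∉ (MulAut.conj : McL →* MulAut McL).range :=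
      fun h3 => h1 (by simpa using inv_mem h3)
    have h3 := (Subgroup.mul_mem_iff_of_index_two hi (a := (Subgroup.normalizerMonoidHom McL ⟨f, hn⟩)⁻¹) (b := σ)).2
      ⟨fun h4 => absurd h4 h2, fun h4 => absurd h4 h⟩
    obtain ⟨k, hk⟩ := h3
    have h4 : σ = Subgroup.normalizerMonoidHom McL ⟨f, hn⟩ * MulAut.conj k := by
      rw [hk, mul_inv_cancel_left]
    refine ⟨⟨f * k, mul_mem hf (mem_McL.1 k.2).1⟩, fun x => ?_⟩
    rw [h4]
    show f * ((k : Equiv.Perm leechLattice) * x * (k : Equiv.Perm leechLattice)⁻¹) * f⁻¹ = f * k * x * (f * k)⁻¹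
    group

theorem good_McL {S : Type u} [Group S] [IsSimpleGroup S] (h : Spor.IsoMcL S) : H687.Good 5 S := by
  have hS : Hyp S := hyp_spor (by unfold IsSporadicGroup; tauto)
  have := hS.fin
  obtain ⟨e⟩ := h
  refine H687.Good.of_equiv e ?_
  have : Finite McL := Finite.of_equiv _ e.toEquiv
  have hc : Subgroup.center McL = ⊥ := by
    have h5 := hS.center_eq_bot
    have h6 := (Subgroup.centerCongr e).toEquiv
    rw [h5] at h6
    exact (Subgroup.eq_bot_iff_card _).2 ((Nat.card_congr h6).symm.trans (by simp))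
  obtain ⟨μ, hμ1, hμ⟩ := exists_22
  obtain ⟨χ, hχ⟩ := exists_252
  have hμd := Cfsg.Agent.H713.Spor.HS.degree_of_lchi hμ
  -- transport to `McL`
  obtain ⟨α, hα⟩ : ∃ α : IrrCharacter McL, (α : McL → ℂ) = (μ : ↥(K (-leechV) leechU) → ℂ) ∘ mclEquiv :=
    ⟨⟨_, Characters.Core.isIrr_comp mclEquiv.toMonoidHom mclEquiv.surjective μ.2⟩, rfl⟩
  obtain ⟨β, hβ⟩ : ∃ β : IrrCharacter McL, (β : McL → ℂ) = (χ : ↥(K (-leechV) leechU) → ℂ) ∘ mclEquiv :=
    ⟨⟨_, Characters.Core.isIrr_comp mclEquiv.toMonoidHom mclEquiv.surjective χ.2⟩, rfl⟩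
  have hαd : charDegree (α : McL → ℂ) = 22 := by
    rw [hα]
    have := H687.charDegree_comp mclEquiv.toMonoidHom (μ : ↥(K (-leechV) leechU) → ℂ)
    rw [show (μ : ↥(K (-leechV) leechU) → ℂ) ∘ mclEquiv = (μ : ↥(K (-leechV) leechU) → ℂ) ∘ mclEquiv.toMonoidHom from rfl,
      this]
    omega
  have hβd : charDegree (β : McL → ℂ) = 252 := by
    rw [hβ, show (χ : ↥(K (-leechV) leechU) → ℂ) ∘ mclEquiv = (χ : ↥(K (-leechV) leechU) → ℂ) ∘ mclEquiv.toMonoidHom
      from rfl, H687.charDegree_comp, hχ]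
  have hinv : AutInv (α : McL → ℂ) := by
    intro σ x
    obtain ⟨c, hc⟩ := exists_conj σ
    have h1 : ∀ y : McL, (α : McL → ℂ) y = (Co2Type.Mono.tr8 (⟨y, (mem_McL.1 y.2).1⟩ : Co0) : ℂ) / 8 - 2 := by
      intro y
      have h2 := hμ (mclEquiv y)
      have h3 : lchi (K (-leechV) leechU).subtype (mclEquiv y) =
          (Co2Type.Mono.tr8 (⟨y, (mem_McL.1 y.2).1⟩ : Co0) : ℂ) / 8 := rfl
      rw [h3] at h2
      rw [hα, h2]
      simp
    rw [h1, h1]
    congr 3
    have h4 : (⟨(σ x : McL), (mem_McL.1 (σ x).2).1⟩ : Co0) = c * ⟨x, (mem_McL.1 x.2).1⟩ * c⁻¹ :=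
      Subtype.ext (hc x)
    rw [h4]
    exact Co2Type.Mono.tr8_conj _ _
  exact good_of_pair hc (by rw [← card_out_congr e]; exact hS.out) (by norm_num) (by norm_num)
    (by rw [hαd]; norm_num) (by rw [hβd]; norm_num) (by rw [hαd]; norm_num) (by rw [hβd]; norm_num) hinv
    (by rw [hαd, hβd]; norm_num)

end Cfsg.Agent.H34.SporMcL
end

-- part: H732/DS/McLDeg
section
set_option linter.all false
open scoped Cfsg.Agent.FastGrp

/-!
# The degree 22 of `McL` and of its overgroups (helper732, task MCL-ELEVEN for S4906)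
-/

set_option autoImplicit false

namespace Cfsg.Agent.H732.DS

open Cfsg Cfsg.Spor Subgroup
open Cfsg.Agent.H997.OutMcL Cfsg.Agent Cfsg.Agent.H997 Cfsg.Agent.H713.Spor.McL Cfsg.Agent.H419.LeechIrr
open Cfsg.Agent.SporadicRecognition.HSRank Cfsg.Agent.H635.Spor

universe u v

/-- `McL` has an irreducible character of degree 22 which is invariant under all automorphisms -/
theorem exists_inv_22 : ∃ α : McL → ℂ, IsIrrCharacter McL α ∧ α 1 = 22 ∧ AutInv α := by
  obtain ⟨hfin, hsimple, hcard, -⟩ := TypeM.FactsMcL.exists_mt_mcl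
  have := Fintype.ofFinite McL
  obtain ⟨μ, hμ1, hμ⟩ := exists_22
  have hμd := Cfsg.Agent.H713.Spor.HS.degree_of_lchi hμ
  obtain ⟨α, hα⟩ : ∃ α : IrrCharacter McL, (α : McL → ℂ) = (μ : ↥(K (-leechV) leechU) → ℂ) ∘ mclEquiv :=
    ⟨⟨_, Characters.Core.isIrr_comp mclEquiv.toMonoidHom mclEquiv.surjective μ.2⟩, rfl⟩
  have hαd : charDegree (α : McL → ℂ) = 22 := by
    rw [hα]
    have := H687.charDegree_comp mclEquiv.toMonoidHom (μ : ↥(K (-leechV) leechU) → ℂ)
    rw [show (μ : ↥(K (-leechV) leechU) → ℂ) ∘ mclEquiv = (μ : ↥(K (-leechV) leechU) → ℂ) ∘ mclEquiv.toMonoidHom from rfl,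
      this]
    omega
  have hinv : AutInv (α : McL → ℂ) := by
    intro σ x
    obtain ⟨c, hc⟩ := Cfsg.Agent.H34.SporMcL.exists_conj σ
    have h1 : ∀ y : McL, (α : McL → ℂ) y = (Co2Type.Mono.tr8 (⟨y, (mem_McL.1 y.2).1⟩ : Co0) : ℂ) / 8 - 2 := by
      intro y
      have h2 := hμ (mclEquiv y)
      have h3 : lchi (K (-leechV) leechU).subtype (mclEquiv y) =
          (Co2Type.Mono.tr8 (⟨y, (mem_McL.1 y.2).1⟩ : Co0) : ℂ) / 8 := rfl
      rw [h3] at h2
      rw [hα, h2]
      simp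
    rw [h1, h1]
    congr 3
    have h4 : (⟨(σ x : McL), (mem_McL.1 (σ x).2).1⟩ : Co0) = c * ⟨x, (mem_McL.1 x.2).1⟩ * c⁻¹ :=
      Subtype.ext (hc x)
    rw [h4]
    exact Co2Type.Mono.tr8_conj _ _
  refine ⟨α, α.2, ?_, hinv⟩
  rw [Cfsg.Agent.Blocks.Basic.irr_one_eq_charDegree α.2, hαd]
  norm_num

/-- **the degree 22**, for every group `A` with a normal subgroup `McL` of index one or two -/
theorem exists_22_of_index {A : Type u} [Group A] [Finite A] (S : Subgroup A) [hS : S.Normal] (h : Spor.IsoMcL S)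
    (hind : S.index ∣ 2) : ∃ χ : A → ℂ, IsIrrCharacter A χ ∧ χ 1 = 22 := by
  obtain ⟨e⟩ := h
  obtain ⟨α, hα, h1, hinv⟩ := exists_inv_22
  have hcyc : IsCyclic (A ⧸ S) := by
    rcases (Nat.dvd_prime Nat.prime_two).1 hind with h2 | h2
    · have : Subsingleton (A ⧸ S) := by
        have h3 : Nat.card (A ⧸ S) = 1 := h2
        exact (Nat.card_eq_one_iff_unique.1 h3).1
      infer_instance
    · have : Fact (Nat.Prime 2) := ⟨Nat.prime_two⟩
      exact isCyclic_of_prime_card (p := 2) h2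
  obtain ⟨χ, hχ, hr⟩ := S0886.result S hcyc (α ∘ e) (Characters.Core.isIrr_comp e.toMonoidHom e.surjective hα) (by
    intro g n
    have h2 := hinv ((e.symm.trans (MulAut.conjNormal g)).trans e) (e n)
    have h3 : (((e.symm.trans (MulAut.conjNormal g)).trans e) (e n)) = e (MulAut.conjNormal g n) := by
      simp
    rw [h3] at h2
    exact h2)
  refine ⟨χ, hχ, ?_⟩
  have h2 := hr 1
  rw [show ((1 : S) : A) = 1 from rfl] at h2
  rw [h2, Function.comp_apply, map_one, h1]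

end Cfsg.Agent.H732.DS
end
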